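import Mathlib

/-!
# Mi hive (owner helper81): S2140, minimal index of proper subgroups of `PSL_n(q)` (Cooperstein)

Definitions shared by all leaves.  Vectors and covectors are both `Fin n → F`; the pairing is the dot product
`φ ⬝ᵥ v`.  `tv v φ` is the transvection `x ↦ x + (φ ⬝ᵥ x) • v` (a matrix `1 + v φᵀ`), defined to be `1` when
`φ ⬝ᵥ v ≠ 0`.  `Qv v` = transvections with centre `v`, `Rphi φ` = transvections with axis `ker φ`.
-/

set_option autoImplicit false

namespace Cfsg.Agent.Lib.Helper81.Mi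

open Matrix

/-- `SL_n(F)` as a matrix group. -/
abbrev SLn (n : ℕ) (F : Type*) [Field F] : Type _ := Matrix.SpecialLinearGroup (Fin n) F

variable {F : Type*} [Field F] {n : ℕ}

/-- the matrix `1 + v φᵀ`. -/
def tmat (v φ : Fin n → F) : Matrix (Fin n) (Fin n) F := 1 + Matrix.vecMulVec v φ

theorem det_tmat (v φ : Fin n → F) : (tmat v φ).det = 1 + φ ⬝ᵥ v := by
  unfold tmat
  rw [Matrix.vecMulVec_eq Unit, Matrix.det_one_add_replicateCol_mul_replicateRow]

/-- auxiliary: the transvection as an element of `SL_n(F)` given the proof of `φ ⬝ᵥ v = 0`. -/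
def tvAux (v φ : Fin n → F) (h : φ ⬝ᵥ v = 0) : SLn n F :=
  ⟨tmat v φ, by rw [det_tmat, h, add_zero]⟩

open Classical in
/-- the transvection `T(v, φ) ∈ SL_n(F)` (`= 1` if `φ ⬝ᵥ v ≠ 0`). -/
noncomputable def tv (v φ : Fin n → F) : SLn n F :=
  if h : φ ⬝ᵥ v = 0 then tvAux v φ h else 1

theorem coe_tv (v φ : Fin n → F) (h : φ ⬝ᵥ v = 0) :
    ((tv v φ : SLn n F) : Matrix (Fin n) (Fin n) F) = tmat v φ := by
  rw [tv, dif_pos h]; rfl

theorem tv_of_ne (v φ : Fin n → F) (h : φ ⬝ᵥ v ≠ 0) : tv v φ = 1 := by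
  rw [tv, dif_neg h]

/-- generators of `Qv v`. -/
def Qset (v : Fin n → F) : Set (SLn n F) := {g | ∃ φ : Fin n → F, φ ⬝ᵥ v = 0 ∧ g = tv v φ}

/-- transvections with centre `v` (an elementary abelian group of order `q^(n-1)` if `v ≠ 0`). -/
def Qv (v : Fin n → F) : Subgroup (SLn n F) := Subgroup.closure (Qset v)

/-- generators of `Rphi φ`. -/
def Rset (φ : Fin n → F) : Set (SLn n F) := {g | ∃ u : Fin n → F, φ ⬝ᵥ u = 0 ∧ g = tv u φ}

/-- transvections with axis `ker φ`. -/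
def Rphi (φ : Fin n → F) : Subgroup (SLn n F) := Subgroup.closure (Rset φ)

/-- the conjugate subgroup `g H g⁻¹`. -/
def cj {G : Type*} [Group G] (g : G) (H : Subgroup G) : Subgroup G := H.map (MulAut.conj g).toMonoidHom

theorem mem_cj {G : Type*} [Group G] (g : G) (H : Subgroup G) (x : G) :
    x ∈ cj g H ↔ g⁻¹ * x * g ∈ H := by
  unfold cj
  rw [Subgroup.mem_map]
  constructor
  · rintro ⟨y, hy, rfl⟩
    simpa [MulAut.conj_apply, mul_assoc] using hy
  · intro h
    exact ⟨g⁻¹ * x * g, h, by simp [MulAut.conj_apply, mul_assoc]⟩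

/-- number of points of `PG(n-1, q)`. -/
def Npts (q n : ℕ) : ℕ := (q ^ n - 1) / (q - 1)

/-- the first standard basis vector (meaningful for `n ≥ 1`). -/
def e0 (F : Type*) [Field F] (n : ℕ) : Fin n → F := fun i => if (i : ℕ) = 0 then 1 else 0

/-- Case I at the point `v`: a non-identity element of `Qv v` fixing a coset forces all of `Qv v` to fix it, and
the cosets not fixed by `Qv v` form one regular orbit. -/
def CaseI (H : Subgroup (SLn n F)) (v : Fin n → F) : Prop :=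
  (∀ (g t : SLn n F), t ∈ Qv v → t ≠ 1 → t ∈ cj g H → Qv v ≤ cj g H) ∧
    H.index = Nat.card F ^ (n - 1) + Nat.card {x : SLn n F ⧸ H // ∀ t ∈ Qv v, t • x = x}

/-- Case II in its final form (S) at the point `v`: every coset stabiliser meets `Qv v` in
`{T(v, φ) : φ ⊥ v, φ ⊥ x}` for some `x ∉ F v`. -/
def CaseS (H : Subgroup (SLn n F)) (v : Fin n → F) : Prop :=
  ∀ g : SLn n F, ∃ x : Fin n → F, (∀ c : F, x ≠ c • v) ∧
    ∀ φ : Fin n → F, φ ⬝ᵥ v = 0 → (tv v φ ∈ cj g H ↔ φ ⬝ᵥ x = 0)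

/-- Case I on the hyperplane side. -/
def CaseI' (H : Subgroup (SLn n F)) (φ : Fin n → F) : Prop :=
  ∀ (g t : SLn n F), t ∈ Rphi φ → t ≠ 1 → t ∈ cj g H → Rphi φ ≤ cj g H

/-- the induction statement. -/
def IND (F : Type*) [Field F] (n : ℕ) : Prop :=
  ∀ H : Subgroup (SLn n F), H ≠ ⊤ →
    Npts (Nat.card F) n ≤ H.index ∨ (n = 4 ∧ Nat.card F = 2 ∧ H.index = 8)

end Cfsg.Agent.Lib.Helper81.Mi
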