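import Cfsg.Agent.Lib.Helper81.Mi.Defs
import Cfsg.Agent.Lib.Helper54.MiTV2
import Cfsg.Agent.Lib.Helper69.MiQV

/-! # Mi hive: MI-PORT (transport of the two cases along `SL_n`) -/

set_option autoImplicit false

namespace Cfsg.Agent.Lib.Helper81.Mi

open Matrix

variable {F : Type*} [Field F] {n : ℕ}

theorem port_mem_cj_cj {G : Type*} [Group G] (γ g : G) (H : Subgroup G) (x : G) :
    x ∈ cj g H ↔ γ⁻¹ * x * γ ∈ cj (γ⁻¹ * g) H := by
  rw [mem_cj, mem_cj]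
  have : (γ⁻¹ * g)⁻¹ * (γ⁻¹ * x * γ) * (γ⁻¹ * g) = g⁻¹ * x * g := by group
  rw [this]

theorem port_mulVec_inj (γ : SLn n F) (x y : Fin n → F)
    (h : (γ : Matrix (Fin n) (Fin n) F) *ᵥ x = (γ : Matrix (Fin n) (Fin n) F) *ᵥ y) : x = y := by
  have h1 := congrArg (fun z => ((γ⁻¹ : SLn n F) : Matrix (Fin n) (Fin n) F) *ᵥ z) h
  simp only [Matrix.mulVec_mulVec] at h1
  have h2 : ((γ⁻¹ : SLn n F) : Matrix (Fin n) (Fin n) F) * (γ : Matrix (Fin n) (Fin n) F) = 1 := by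
    rw [← Matrix.SpecialLinearGroup.coe_mul, inv_mul_cancel, Matrix.SpecialLinearGroup.coe_one]
  rwa [h2, Matrix.one_mulVec, Matrix.one_mulVec] at h1

/-- MI-PORT -/
theorem caseS_smul (H : Subgroup (SLn n F)) (γ : SLn n F) (v : Fin n → F) (h : CaseS H v) :
    CaseS H ((γ : Matrix (Fin n) (Fin n) F) *ᵥ v) := by
  intro g
  obtain ⟨x, hx, hφ⟩ := h (γ⁻¹ * g)
  refine ⟨(γ : Matrix (Fin n) (Fin n) F) *ᵥ x, ?_, ?_⟩
  · intro c hc
    apply hx c
    apply port_mulVec_inj γ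
    rw [hc, Matrix.mulVec_smul]
  · intro φ hφv
    set ψ : Fin n → F := φ ᵥ* (γ : Matrix (Fin n) (Fin n) F) with hψ
    have hψv : ψ ⬝ᵥ v = 0 := by
      rw [hψ, ← Matrix.dotProduct_mulVec]; exact hφv
    have hback : ψ ᵥ* ((γ⁻¹ : SLn n F) : Matrix (Fin n) (Fin n) F) = φ := by
      rw [hψ, Matrix.vecMul_vecMul]
      have h2 : (γ : Matrix (Fin n) (Fin n) F) * ((γ⁻¹ : SLn n F) : Matrix (Fin n) (Fin n) F) = 1 := by
        rw [← Matrix.SpecialLinearGroup.coe_mul, mul_inv_cancel, Matrix.SpecialLinearGroup.coe_one]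
      rw [h2, Matrix.vecMul_one]
    have hconj : γ * tv v ψ * γ⁻¹ = tv ((γ : Matrix (Fin n) (Fin n) F) *ᵥ v) φ := by
      rw [conj_tv, hback]
    rw [port_mem_cj_cj γ g H, ← hconj]
    have : γ⁻¹ * (γ * tv v ψ * γ⁻¹) * γ = tv v ψ := by group
    rw [this, hφ ψ hψv, hψ, ← Matrix.dotProduct_mulVec]

theorem port_Qv_smul (γ : SLn n F) (v : Fin n → F) (t : SLn n F) :
    t ∈ Qv ((γ : Matrix (Fin n) (Fin n) F) *ᵥ v) ↔ γ⁻¹ * t * γ ∈ Qv v := by
  rw [← cj_Qv, mem_cj]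

/-- MI-PORT -/
theorem caseI_smul [Finite F] (H : Subgroup (SLn n F)) (γ : SLn n F) (v : Fin n → F) (h : CaseI H v) :
    CaseI H ((γ : Matrix (Fin n) (Fin n) F) *ᵥ v) := by
  obtain ⟨h1, h2⟩ := h
  refine ⟨?_, ?_⟩
  · intro g t ht hne htg
    have ht' : γ⁻¹ * t * γ ∈ Qv v := (port_Qv_smul γ v t).mp ht
    have hne' : γ⁻¹ * t * γ ≠ 1 := by
      intro h
      apply hne
      have : t = γ * (γ⁻¹ * t * γ) * γ⁻¹ := by group
      rw [this, h]; group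
    have htg' : γ⁻¹ * t * γ ∈ cj (γ⁻¹ * g) H := (port_mem_cj_cj γ g H t).mp htg
    have hle := h1 (γ⁻¹ * g) _ ht' hne' htg'
    intro s hs
    rw [port_mem_cj_cj γ g H]
    exact hle ((port_Qv_smul γ v s).mp hs)
  · rw [h2]
    congr 1
    refine Nat.card_congr ?_
    refine
      { toFun := fun x => ⟨γ • x.1, ?_⟩
        invFun := fun x => ⟨γ⁻¹ • x.1, ?_⟩
        left_inv := fun x => by simp
        right_inv := fun x => by simp }
    · intro t ht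
      have ht' : γ⁻¹ * t * γ ∈ Qv v := (port_Qv_smul γ v t).mp ht
      have := x.2 _ ht'
      calc t • γ • x.1 = γ • ((γ⁻¹ * t * γ) • x.1) := by
            simp only [smul_smul]; congr 1; group
        _ = γ • x.1 := by rw [this]
    · intro t ht
      have ht' : γ * t * γ⁻¹ ∈ Qv ((γ : Matrix (Fin n) (Fin n) F) *ᵥ v) := by
        rw [port_Qv_smul]
        have : γ⁻¹ * (γ * t * γ⁻¹) * γ = t := by group
        rw [this]; exact ht
      have := x.2 _ ht'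
      calc t • γ⁻¹ • x.1 = γ⁻¹ • ((γ * t * γ⁻¹) • x.1) := by
            simp only [smul_smul]; congr 1; group
        _ = γ⁻¹ • x.1 := by rw [this]

end Cfsg.Agent.Lib.Helper81.Mi
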