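import Cfsg.Agent.Lib.Helper81.Mi.Dich
import Cfsg.Agent.Lib.Helper81.Mi.Port
import Cfsg.Agent.Lib.Helper24.MiTAU
import Cfsg.Agent.Lib.Helper96.MiKS
import Cfsg.Agent.Lib.Helper64.MiKI

/-! # Mi hive: top assembly (helper81) -/

set_option autoImplicit false

namespace Cfsg.Agent.Lib.Helper81.Mi

open Matrix

variable {F : Type*} [Field F] {n : ℕ}

/-- the dichotomy at every non-zero vector. -/
theorem dich_all [Finite F] (hn : 3 ≤ n) (ih : 4 ≤ n → IND F (n - 1)) (H : Subgroup (SLn n F)) (hH : H ≠ ⊤)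
    (hd : H.index < Npts (Nat.card F) n) :
    (∀ v : Fin n → F, v ≠ 0 → CaseI H v) ∨ (∀ v : Fin n → F, v ≠ 0 → CaseS H v) := by
  rcases dich hn ih H hH hd with h | h
  · left
    intro v hv
    obtain ⟨γ, rfl⟩ := exists_smul_e0 (by omega) v hv
    exact caseI_smul H γ _ h
  · right
    intro v hv
    obtain ⟨γ, rfl⟩ := exists_smul_e0 (by omega) v hv
    exact caseS_smul H γ _ h

theorem ind_step [Finite F] (hn : 3 ≤ n) (ih : 4 ≤ n → IND F (n - 1)) : IND F n := by
  intro H hH
  by_cases hd : Npts (Nat.card F) n ≤ H.index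
  · exact Or.inl hd
  right
  have hd' : H.index < Npts (Nat.card F) n := by omega
  rcases dich_all hn ih H hH hd' with h1 | hS
  swap
  · exact (kill_S hn H hS).elim
  obtain ⟨τ, hτ⟩ := exists_tau (F := F) (n := n)
  have hH' : H.map τ.toMonoidHom ≠ ⊤ := by
    intro h
    apply hH
    have := congrArg (Subgroup.comap τ.toMonoidHom) h
    rwa [Subgroup.comap_map_eq_self_of_injective τ.injective, Subgroup.comap_top] at this
  have hidx : (H.map τ.toMonoidHom).index = H.index :=
    Subgroup.index_map_of_bijective τ.bijective H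
  rcases dich_all hn ih (H.map τ.toMonoidHom) hH' (by rw [hidx]; exact hd') with h2 | hS
  swap
  · exact (kill_S hn _ hS).elim
  exact kill_I hn H hH h1 (fun φ hφ => hτ H φ (h2 φ hφ))

theorem ind_all [Finite F] : ∀ n : ℕ, 3 ≤ n → IND F n := by
  intro n hn
  induction n, hn using Nat.le_induction with
  | base => exact ind_step (le_refl 3) (fun h => absurd h (by norm_num))
  | succ m hm ih => exact ind_step (by omega) (fun _ => by simpa using ih)

/-- the lower bound for `PSL_n(F)`. -/
theorem psl_index_ge [Finite F] (hn : 3 ≤ n) (hexc : ¬ (n = 4 ∧ Nat.card F = 2))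
    (H : Subgroup (Matrix.ProjectiveSpecialLinearGroup (Fin n) F)) (hH : H ≠ ⊤) :
    Npts (Nat.card F) n ≤ H.index := by
  let π : SLn n F →* Matrix.ProjectiveSpecialLinearGroup (Fin n) F :=
    QuotientGroup.mk' (Subgroup.center (SLn n F))
  have hπ : Function.Surjective π := QuotientGroup.mk'_surjective _
  have hidx : (H.comap π).index = H.index := Subgroup.index_comap_of_surjective H hπ
  have hne : H.comap π ≠ ⊤ := by
    intro h
    apply hH
    rw [eq_top_iff]
    intro x _
    obtain ⟨y, rfl⟩ := hπ x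
    have : y ∈ H.comap π := by rw [h]; trivial
    exact this
  rcases ind_all n hn (H.comap π) hne with h | ⟨h4, h2, _⟩
  · rwa [hidx] at h
  · exact (hexc ⟨h4, h2⟩).elim

end Cfsg.Agent.Lib.Helper81.Mi
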