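import Cfsg.Agent.Lib.Helper81.Mi.Defs
import Cfsg.Agent.Lib.Helper8.MiAR
import Cfsg.Agent.Lib.Helper8.MiNUM
import Cfsg.Agent.Lib.Helper80.MiORB
import Cfsg.Agent.Lib.Helper54.MiTV2
import Cfsg.Agent.Lib.Helper69.MiQV
import Cfsg.Agent.Lib.Helper13.MiTRANS
import Cfsg.Agent.Lib.Helper78.MiNTcore
import Cfsg.Agent.Lib.Helper34.MiLEVIcore
import Cfsg.Agent.Lib.Helper59.MiDS

/-! # Mi hive: MI-DICH, the dichotomy at `e0` (helper81) -/

set_option autoImplicit false

namespace Cfsg.Agent.Lib.Helper81.Mi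

open Matrix

variable {F : Type*} [Field F] {n : ℕ}

theorem dich_e0_ne (hn : 1 ≤ n) : e0 F n ≠ 0 := by
  intro h
  have := congrFun h ⟨0, by omega⟩
  simp [e0] at this

/-- MI-NT via helper78's `nt_core`. -/
theorem dich_exists_not_Qv_le (hn : 2 ≤ n) (H : Subgroup (SLn n F)) (hH : H ≠ ⊤) (v : Fin n → F) (hv : v ≠ 0) :
    ∃ g : SLn n F, ¬ Qv v ≤ cj g H :=
  nt_core conj_tv (fun v hv => exists_smul_e0 hn v hv) H hH v hv

/-- MI-LEVI via helper34's `levi_core`. -/
theorem dich_exists_levi (hn : 3 ≤ n) : ∃ (L : Subgroup (SLn n F)) (_ : SLn (n - 1) F ≃* L),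
    (∀ l ∈ L, ∀ t ∈ Qv (e0 F n), l * t * l⁻¹ ∈ Qv (e0 F n)) ∧
    (∀ t ∈ Qv (e0 F n), ∀ t' ∈ Qv (e0 F n), t ≠ 1 → t' ≠ 1 → ∃ l ∈ L, l * t * l⁻¹ = t') := by
  obtain ⟨k, rfl⟩ : ∃ k, n = k + 1 := ⟨n - 1, by omega⟩
  exact levi_core k conj_tv vecMul_inv_dotProduct mem_Qv_iff
    (fun v hv => exists_smul_e0 (by omega) v hv)

theorem dich_fixed_of_le (H : Subgroup (SLn n F)) (Q : Subgroup (SLn n F)) (g : SLn n F) (h : Q ≤ cj g H) :
    ∀ t ∈ Q, t • (g : SLn n F ⧸ H) = (g : SLn n F ⧸ H) := by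
  intro t ht
  have h1 := h ht
  rw [mem_cj] at h1
  show ((t * g : SLn n F) : SLn n F ⧸ H) = (g : SLn n F ⧸ H)
  rw [QuotientGroup.eq]
  have : (t * g)⁻¹ * g = (g⁻¹ * t * g)⁻¹ := by group
  rw [this]
  exact H.inv_mem h1

/-- MI-DICH: the dichotomy at `e0` (assembly of ORB + NUM + LEVI + NT + QV + DS). -/
theorem dich [Finite F] (hn : 3 ≤ n) (ih : 4 ≤ n → IND F (n - 1)) (H : Subgroup (SLn n F)) (hH : H ≠ ⊤)
    (hd : H.index < Npts (Nat.card F) n) : CaseI H (e0 F n) ∨ CaseS H (e0 F n) := by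
  classical
  have hq2 : 2 ≤ Nat.card F := by
    have : 1 < Nat.card F := Finite.one_lt_card
    omega
  have hqpp : IsPrimePow (Nat.card F) := by
    cases nonempty_fintype F
    rw [Nat.card_eq_fintype_card]
    exact FiniteField.isPrimePow_card F
  have he0 : e0 F n ≠ 0 := dich_e0_ne (by omega)
  have hN : Nat.card (Qv (e0 F n)) = Nat.card F ^ (n - 1) := card_Qv (by omega) _ he0
  obtain ⟨L, ι, hnorm, hconj⟩ := dich_exists_levi (F := F) hn
  have hnt := dich_exists_not_Qv_le (by omega) H hH (e0 F n) he0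
  have hd2 : H.index < 2 * Nat.card F ^ (n - 1) :=
    lt_trans hd (Npts_lt _ _ hq2 (by omega))
  obtain ⟨s, a, hs1, hsN, has, hidx, hdich, ⟨K, hK⟩, hfix⟩ :=
    orbit_dichotomy H (Qv (e0 F n)) L _ hN hnorm hconj hnt hd2
  -- the induction hypothesis applied to `K`
  have hih : 4 ≤ n → a = 1 ∨ Npts (Nat.card F) (n - 1) ≤ a ∨ (n - 1 = 4 ∧ Nat.card F = 2 ∧ a = 8) := by
    intro h4
    have hsurj : Function.Surjective ι.toMonoidHom := ι.surjective
    have hidxK : (K.comap ι.toMonoidHom).index = a := by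
      rw [Subgroup.index_comap_of_surjective K hsurj, hK]
    by_cases htop : K.comap ι.toMonoidHom = ⊤
    · left
      rw [← hidxK, htop, Subgroup.index_top]
    · right
      have := ih h4 _ htop
      rw [hidxK] at this
      exact this
  have hle : a * s ≤ H.index := by rw [hidx]; exact Nat.le_add_right _ _
  rcases dich_num (Nat.card F) n s a H.index hqpp hn hs1 hsN has hle hd hih with ⟨ha, hs⟩ | ⟨ha, hs, hdd⟩
  · left
    refine ⟨?_, ?_⟩
    · intro g t ht hne htg
      rcases hdich g with h | h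
      · exact h
      · exfalso
        rw [hs, ← hN] at h
        -- relIndex = card Q means the intersection is trivial
        have h1 : ((cj g H).subgroupOf (Qv (e0 F n))).index = Nat.card (Qv (e0 F n)) := h
        have h2 : (cj g H).subgroupOf (Qv (e0 F n)) = ⊥ := by
          have hmul := Subgroup.card_mul_index ((cj g H).subgroupOf (Qv (e0 F n)))
          rw [h1] at hmul
          have hpos : 0 < Nat.card (Qv (e0 F n)) := Nat.card_pos
          have : Nat.card ((cj g H).subgroupOf (Qv (e0 F n))) = 1 := by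
            nlinarith
          exact Subgroup.card_eq_one.mp this
        have h3 : (⟨t, ht⟩ : Qv (e0 F n)) ∈ (cj g H).subgroupOf (Qv (e0 F n)) := by
          rw [Subgroup.mem_subgroupOf]; exact htg
        rw [h2, Subgroup.mem_bot] at h3
        exact hne (congrArg Subtype.val h3)
    · rw [hidx, ha, hs, one_mul]
  · right
    have hfix0 : Nat.card {x : SLn n F ⧸ H // ∀ t ∈ Qv (e0 F n), t • x = x} = 0 := by
      have := hidx
      rw [ha, hs, hdd] at this
      have h' : Npts (Nat.card F) (n - 1) * Nat.card F = Nat.card F * Npts (Nat.card F) (n - 1) := Nat.mul_comm _ _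
      omega
    apply caseS_of_num hn H hdd
    · intro g
      rcases hdich g with h | h
      · exfalso
        have hx := dich_fixed_of_le H _ g h
        have : Nonempty {x : SLn n F ⧸ H // ∀ t ∈ Qv (e0 F n), t • x = x} := ⟨⟨_, hx⟩⟩
        have hpos : 0 < Nat.card {x : SLn n F ⧸ H // ∀ t ∈ Qv (e0 F n), t • x = x} := Nat.card_pos
        omega
      · rw [h, hs]
    · intro t ht hne
      rw [hfix t ht hne, hfix0, ha, add_zero]

end Cfsg.Agent.Lib.Helper81.Mi
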